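import Mathlib
import Groth.Agent.S7138
import Groth.Agent.S0549
import Groth.Agent.NormalTensor.Henselian
import Groth.Agent.FEtLib.Restrict

/-!
# Finite étale covers of the fraction field of a henselian discrete valuation ring and of its completion
-/

set_option autoImplicit false
set_option backward.isDefEq.respectTransparency false
set_option linter.style.haveILetI false

universe u

open CategoryTheory CategoryTheory.Limits AlgebraicGeometry TensorProduct Polynomial IsLocalRing

noncomputable section

namespace Groth.Agent.HenComplLib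

variable (R K Kh : Type u) [CommRing R] [IsDomain R] [IsDiscreteValuationRing R] [HenselianLocalRing R]
  [Field K] [Algebra R K] [IsFractionRing R K] [Field Kh] [Algebra (AdicCompletion (maximalIdeal R) R) Kh]
  [IsFractionRing (AdicCompletion (maximalIdeal R) R) Kh] [Algebra R Kh]
  [IsScalarTower R (AdicCompletion (maximalIdeal R) R) Kh] [Algebra K Kh] [IsScalarTower R K Kh]

include R

/-- The fraction field of a henselian discrete valuation ring is separably closed in that of the completion. -/
theorem mem_range_of_isSeparable (x : Kh) (hx : IsSeparable K x) : x ∈ (algebraMap K Kh).range := by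
  classical
  obtain ⟨hd, hv⟩ := (Groth.Agent.S0549.result R).1 ⟨inferInstance, inferInstance⟩
  haveI := hd
  haveI := hv
  let O := AdicCompletion (maximalIdeal R) R
  let L : IntermediateField K Kh := IntermediateField.adjoin K {x}
  haveI : FiniteDimensional K L := IntermediateField.adjoin.finiteDimensional hx.isIntegral
  haveI : Algebra.IsSeparable K L := (IntermediateField.isSeparable_adjoin_simple_iff_isSeparable K Kh).2 hx
  have hcoe : ∀ r : R, ((algebraMap R L r : L) : Kh) = algebraMap R Kh r := fun r => by
    rw [IsScalarTower.algebraMap_apply R K L]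
    exact (IsScalarTower.algebraMap_apply R K Kh r).symm
  haveI : IsScalarTower R L Kh := IsScalarTower.of_algebraMap_eq fun r => (hcoe r).symm
  let S : Subalgebra R L := integralClosure R L
  haveI : Module.Finite R S := IsIntegralClosure.finite R K L S
  haveI : IsFractionRing S L := integralClosure.isFractionRing_of_finite_extension K L
  haveI : IsDedekindDomain S := IsIntegralClosure.isDedekindDomain R K L S
  haveI : IsLocalRing S := Groth.Agent.NormalTensor.isLocalRing_of_finite_domain R S
  have hinj : Function.Injective (algebraMap R S) := fun a b h => by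
    have h' : algebraMap R L a = algebraMap R L b := congrArg Subtype.val h
    rw [IsScalarTower.algebraMap_apply R K L, IsScalarTower.algebraMap_apply R K L] at h'
    exact IsFractionRing.injective R K ((algebraMap K L).injective h')
  have hnf : ¬ IsField S := fun h =>
    IsDiscreteValuationRing.not_isField R (isField_of_isIntegral_of_isField hinj h)
  haveI : IsDiscreteValuationRing S := by
    refine ((IsDiscreteValuationRing.TFAE S hnf).out 2 0).1 ?_
    infer_instance
  -- the map to the completion
  have hmem : ∀ s : S, ∃ o : O, algebraMap O Kh o = ((s : L) : Kh) := by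
    intro s
    have h1 : IsIntegral R ((s : L) : Kh) := s.2.map (IsScalarTower.toAlgHom R L Kh)
    exact IsIntegrallyClosed.isIntegral_iff.1 h1.tower_top
  choose j hj using hmem
  have hinjO := IsFractionRing.injective O Kh
  have j_mul : ∀ a b, j (a * b) = j a * j b := fun a b => hinjO (by rw [map_mul, hj, hj, hj]; rfl)
  have j_add : ∀ a b, j (a + b) = j a + j b := fun a b => hinjO (by rw [map_add, hj, hj, hj]; rfl)
  have j_R : ∀ r : R, j (algebraMap R S r) = algebraMap R O r := fun r => hinjO (by
    rw [hj, ← IsScalarTower.algebraMap_apply R O Kh]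
    exact hcoe r)
  have j_one : j 1 = 1 := by simpa using j_R 1
  have j_zero : j 0 = 0 := by simpa using j_R 0
  let jh : S →+* O :=
    { toFun := j, map_one' := j_one, map_mul' := j_mul, map_zero' := j_zero, map_add' := j_add }
  obtain ⟨π, hπ⟩ := IsDiscreteValuationRing.exists_irreducible R
  have hπR : maximalIdeal R = Ideal.span {π} := hπ.maximalIdeal_eq
  have hp : maximalIdeal O = Ideal.span {algebraMap R O π} := by
    rw [AdicCompletion.maximalIdeal_eq_map_of_fg (IsNoetherian.noetherian _)]
    exact (congrArg (Ideal.map _) hπR).trans (by rw [Ideal.map_span, Set.image_singleton])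
  have hpirr : Irreducible (algebraMap R O π) := (IsDiscreteValuationRing.irreducible_iff_uniformizer _).2 hp
  obtain ⟨ϖ, hϖ⟩ := IsDiscreteValuationRing.exists_irreducible S
  have hmS : maximalIdeal S = Ideal.span {ϖ} := hϖ.maximalIdeal_eq
  have hker : (maximalIdeal O).comap jh = maximalIdeal S := by
    have h1 : ((maximalIdeal O).comap jh).comap (algebraMap R S) = maximalIdeal R := by
      rw [Ideal.comap_comap]
      ext r
      show j (algebraMap R S r) ∈ maximalIdeal O ↔ _
      rw [j_R]
      refine ⟨fun h => by_contra fun hr => ?_, fun h => ?_⟩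
      · exact (IsLocalRing.notMem_maximalIdeal.2 ((IsLocalRing.notMem_maximalIdeal.1 hr).map (algebraMap R O))) h
      · rw [AdicCompletion.maximalIdeal_eq_map_of_fg (IsNoetherian.noetherian _)]
        exact Ideal.mem_map_of_mem _ h
    haveI : ((maximalIdeal O).comap jh).IsPrime := inferInstance
    haveI : (((maximalIdeal O).comap jh).comap (algebraMap R S)).IsMaximal := by rw [h1]; infer_instance
    exact IsLocalRing.eq_maximalIdeal (Ideal.isMaximal_of_isIntegral_of_isMaximal_comap (R := R) _ inferInstance)
  have hπS : algebraMap R S π ≠ 0 := fun h => hπ.ne_zero (hinj (h.trans (map_zero _).symm))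
  obtain ⟨e, v, hev⟩ := IsDiscreteValuationRing.eq_unit_mul_pow_irreducible hπS hϖ
  have he1 : e ≤ 1 := by
    by_contra hc
    push Not at hc
    have hjϖ : jh ϖ ∈ maximalIdeal O := by
      have : ϖ ∈ (maximalIdeal O).comap jh := hker ▸ (hmS ▸ Ideal.mem_span_singleton_self ϖ)
      exact this
    have h2 : algebraMap R O π = jh ↑v * jh ϖ ^ e := by
      rw [← j_R, hev]
      show jh (↑v * ϖ ^ e) = _
      rw [map_mul, map_pow]
    obtain ⟨e', rfl⟩ := Nat.exists_eq_add_of_le hc
    rw [Nat.succ_eq_add_one, show 1 + 1 + e' = 1 + (1 + e') by ring, pow_add, pow_one, ← mul_assoc] at h2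
    rcases hpirr.isUnit_or_isUnit h2 with h | h
    · exact (IsLocalRing.mem_maximalIdeal _).1 ((maximalIdeal O).mul_mem_left _ hjϖ) h
    · exact (IsLocalRing.mem_maximalIdeal _).1 (Ideal.pow_mem_of_mem _ hjϖ (1 + e') (by omega)) h
  have hm : maximalIdeal S ≤ Ideal.map (algebraMap R S) (maximalIdeal R) := by
    rw [hπR, Ideal.map_span, Set.image_singleton, hmS, Ideal.span_singleton_le_iff_mem,
      Ideal.mem_span_singleton, hev]
    exact Units.mul_left_dvd.2 (by simpa using pow_dvd_pow ϖ he1)
  have htop : (⊤ : Submodule R S) ≤ LinearMap.range (Algebra.linearMap R S) := by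
    refine Submodule.le_of_le_smul_of_le_jacobson_bot (I := maximalIdeal R) Module.Finite.fg_top
      (IsLocalRing.maximalIdeal_le_jacobson _) fun s _ => ?_
    obtain ⟨a, ha⟩ := Groth.Agent.S7138.approx R π hπR 1 (j s)
    have hsub : s - algebraMap R S a ∈ maximalIdeal S := by
      rw [← hker]
      show jh (s - algebraMap R S a) ∈ maximalIdeal O
      rw [map_sub]
      show j s - j (algebraMap R S a) ∈ _
      rw [j_R, hp, Ideal.mem_span_singleton]
      simpa using ha
    refine Submodule.mem_sup.2 ⟨algebraMap R S a, ⟨a, rfl⟩, s - algebraMap R S a, ?_, by ring⟩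
    rw [Ideal.smul_top_eq_map]
    exact hm hsub
  obtain ⟨s, r, hr, hxr⟩ : ∃ (s r : S), r ≠ 0 ∧ x * ((r : L) : Kh) = ((s : L) : Kh) := by
    obtain ⟨s, r, hr, hsr⟩ := IsFractionRing.div_surjective (A := S)
      (⟨x, IntermediateField.mem_adjoin_simple_self K x⟩ : L)
    refine ⟨s, r, nonZeroDivisors.ne_zero hr, ?_⟩
    have hr0 : algebraMap S L r ≠ 0 := IsFractionRing.to_map_ne_zero_of_mem_nonZeroDivisors hr
    have := congrArg (fun z : L => ((z * algebraMap S L r : L) : Kh)) hsr
    simp only [div_mul_cancel₀ _ hr0] at this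
    exact this.symm
  obtain ⟨a, rfl⟩ := htop (Submodule.mem_top (x := s))
  obtain ⟨b, rfl⟩ := htop (Submodule.mem_top (x := r))
  refine ⟨algebraMap R K a / algebraMap R K b, ?_⟩
  have hb : algebraMap R Kh b ≠ 0 := by
    rw [IsScalarTower.algebraMap_apply R K Kh]
    intro h
    exact hr (by
      rw [IsFractionRing.injective R K (((algebraMap K Kh).injective (h.trans (map_zero _).symm)).trans (map_zero _).symm)]
      exact map_zero _)
  rw [map_div₀, ← IsScalarTower.algebraMap_apply, ← IsScalarTower.algebraMap_apply, div_eq_iff hb]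
  have h1 : ∀ c : R, (((Algebra.linearMap R S c : S) : L) : Kh) = algebraMap R Kh c := hcoe
  rw [h1, h1] at hxr
  exact hxr.symm

/-- An irreducible separable polynomial over `K` stays irreducible over the fraction field of the completion. -/
theorem irreducible_map (f : K[X]) (hm : f.Monic) (hf : Irreducible f) (hsep : f.Separable) :
    Irreducible (f.map (algebraMap K Kh)) := by
  have hne : f.map (algebraMap K Kh) ≠ 1 := by
    intro h
    have := congrArg Polynomial.natDegree h
    rw [Polynomial.natDegree_map, Polynomial.natDegree_one] at this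
    exact absurd this (hf.natDegree_pos).ne'
  refine (hm.map _).irreducible_iff_natDegree.2 ⟨hne, fun g h hg hh hgh => ?_⟩
  let Ω := AlgebraicClosure Kh
  -- the coefficients of a monic factor are separable over the base
  let F : IntermediateField K Ω := separableClosure K Ω
  have hspl : ((g.map (algebraMap Kh Ω))).Splits := IsAlgClosed.splits _
  have hcoef : ∀ i, IsSeparable K (g.coeff i) := by
    intro i
    have hroots : ∀ a ∈ (g.map (algebraMap Kh Ω)).roots, a ∈ F := by
      intro a ha
      rw [mem_separableClosure_iff]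
      refine hsep.of_dvd (minpoly.dvd K a ?_)
      rw [← Polynomial.aeval_map_algebraMap Kh, ← hgh, map_mul]
      have : aeval a g = 0 := by
        rw [aeval_def, ← Polynomial.eval_map]
        exact (mem_roots (hg.map _).ne_zero).1 ha
      rw [this, zero_mul]
    have hc : algebraMap Kh Ω (g.coeff i) ∈ F := by
      rw [← Polynomial.coeff_map, hspl.eq_prod_roots_of_monic (hg.map _)]
      have : ∀ (s : Multiset Ω), (∀ a ∈ s, a ∈ F) → ∀ n, ((s.map fun a => X - C a).prod).coeff n ∈ F := by
        intro s
        induction s using Multiset.induction_on with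
        | empty =>
          intro _ n
          simp only [Multiset.map_zero, Multiset.prod_zero, coeff_one]
          split_ifs
          · exact one_mem _
          · exact zero_mem _
        | cons a s ih =>
          intro hs n
          have ih' := ih fun b hb => hs b (Multiset.mem_cons_of_mem hb)
          rw [Multiset.map_cons, Multiset.prod_cons, sub_mul, coeff_sub, coeff_C_mul]
          refine sub_mem ?_ (mul_mem (hs a (Multiset.mem_cons_self a s)) (ih' n))
          cases n with
          | zero => rw [coeff_X_mul_zero]; exact zero_mem _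
          | succ n => rw [coeff_X_mul]; exact ih' n
      exact this _ hroots i
    rw [mem_separableClosure_iff] at hc
    have hmin : minpoly K (algebraMap Kh Ω (g.coeff i)) = minpoly K (g.coeff i) :=
      minpoly.algebraMap_eq (algebraMap Kh Ω).injective _
    rw [IsSeparable, hmin] at hc
    exact hc
  obtain ⟨g₀, rfl⟩ : ∃ g₀ : K[X], g₀.map (algebraMap K Kh) = g :=
    (Polynomial.mem_map_range (algebraMap K Kh)).2 fun i => mem_range_of_isSeparable R K Kh _ (hcoef i)
  rw [Polynomial.natDegree_map]
  have hg₀ : g₀.Monic := monic_of_injective (algebraMap K Kh).injective hg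
  have hdvd : g₀ ∣ f := (Polynomial.map_dvd_map' (algebraMap K Kh)).1 ⟨h, hgh.symm⟩
  obtain ⟨q, hq⟩ := hdvd
  rcases hf.isUnit_or_isUnit hq with h' | h'
  · exact Or.inl (Polynomial.natDegree_eq_zero_of_isUnit h')
  · refine Or.inr ?_
    have hqd := Polynomial.natDegree_eq_zero_of_isUnit h'
    have hq0 : q ≠ 0 := h'.ne_zero
    have e1 := congrArg Polynomial.natDegree hgh
    rw [Polynomial.natDegree_map, hq, Polynomial.natDegree_mul hg₀.ne_zero hq0, (hg₀.map _).natDegree_mul hh,
      Polynomial.natDegree_map] at e1
    omega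

/-- The base change of a finite separable field extension is a field. -/
theorem isField_baseChange (L : Type u) [Field L] [Algebra K L] [FiniteDimensional K L] [Algebra.IsSeparable K L] :
    IsField (Kh ⊗[K] L) := by
  obtain ⟨α, hα⟩ := Field.exists_primitive_element K L
  have hint : IsIntegral K α := Algebra.IsIntegral.isIntegral α
  set F := (minpoly K α).map (algebraMap K Kh) with hF
  haveI : Fact (Irreducible F) :=
    ⟨irreducible_map R K Kh _ (minpoly.monic hint) (minpoly.irreducible hint) (Algebra.IsSeparable.isSeparable K α)⟩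
  let pb := (IntermediateField.adjoin.powerBasis hint).map
    ((IntermediateField.equivOfEq hα).trans IntermediateField.topEquiv)
  have hgen : pb.gen = α := rfl
  have hroot : aeval (AdjoinRoot.root F) (minpoly K pb.gen) = 0 := by
    rw [hgen, ← Polynomial.aeval_map_algebraMap Kh, ← hF, AdjoinRoot.aeval_eq, AdjoinRoot.mk_self]
  let φ : Kh ⊗[K] L →ₐ[Kh] AdjoinRoot F :=
    Algebra.TensorProduct.lift (Algebra.ofId Kh (AdjoinRoot F)) (pb.lift (AdjoinRoot.root F) hroot)
      fun _ _ => Commute.all _ _
  have hφ : Function.Surjective φ := by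
    rw [← AlgHom.range_eq_top, eq_top_iff, ← AdjoinRoot.adjoinRoot_eq_top]
    refine Algebra.adjoin_le ?_
    rintro _ rfl
    refine ⟨1 ⊗ₜ pb.gen, ?_⟩
    show φ (1 ⊗ₜ pb.gen) = _
    rw [Algebra.TensorProduct.lift_tmul, map_one, one_mul, PowerBasis.lift_gen]
  have hne : F ≠ 0 := ((minpoly.monic hint).map _).ne_zero
  haveI : Module.Finite Kh (AdjoinRoot F) := (AdjoinRoot.powerBasis hne).finite
  have hdim : Module.finrank Kh (Kh ⊗[K] L) = Module.finrank Kh (AdjoinRoot F) := by
    rw [Module.finrank_baseChange, (AdjoinRoot.powerBasis hne).finrank, AdjoinRoot.powerBasis_dim,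
      Polynomial.natDegree_map, pb.finrank, ← pb.natDegree_minpoly, hgen]
  have hinjφ : Function.Injective φ :=
    (LinearMap.injective_iff_surjective_of_finrank_eq_finrank hdim).2 (show Function.Surjective φ.toLinearMap from hφ)
  exact (AlgEquiv.ofBijective φ ⟨hinjφ, hφ⟩).toMulEquiv.isField (Field.toIsField _)

/-- A finite étale algebra over `K` and its base change have the same spectrum. -/
theorem injective_comap (B : Type u) [CommRing B] [Algebra K B] [Algebra.Etale K B] [Module.Finite K B] :
    Function.Injective (PrimeSpectrum.comap (Algebra.TensorProduct.includeRight : B →ₐ[K] Kh ⊗[K] B).toRingHom) := by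
  intro P P' hPP'
  let q := (PrimeSpectrum.comap (Algebra.TensorProduct.includeRight : B →ₐ[K] Kh ⊗[K] B).toRingHom P).asIdeal
  haveI : IsArtinianRing B := IsArtinianRing.of_finite K B
  haveI : q.IsMaximal := IsArtinianRing.isMaximal_of_isPrime q
  letI : Field (B ⧸ q) := Ideal.Quotient.field q
  haveI : Algebra.FormallyUnramified K (B ⧸ q) := Algebra.FormallyUnramified.of_surjective
    (Ideal.Quotient.mkₐ K q) Ideal.Quotient.mk_surjective
  haveI : Algebra.IsSeparable K (B ⧸ q) := Algebra.FormallyUnramified.isSeparable K (B ⧸ q)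
  let π : Kh ⊗[K] B →ₐ[Kh] Kh ⊗[K] (B ⧸ q) :=
    Algebra.TensorProduct.map (AlgHom.id Kh Kh) (Ideal.Quotient.mkₐ K q)
  have hπ : Function.Surjective π :=
    LinearMap.lTensor_surjective Kh (g := (Ideal.Quotient.mkₐ K q).toLinearMap) Ideal.Quotient.mk_surjective
  letI := (isField_baseChange R K Kh (B ⧸ q)).toField
  haveI : (RingHom.ker π.toRingHom).IsMaximal := RingHom.ker_isMaximal_of_surjective π.toRingHom hπ
  have hk : RingHom.ker π.toRingHom =
      q.map (Algebra.TensorProduct.includeRight : B →ₐ[K] Kh ⊗[K] B).toRingHom := by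
    refine (Algebra.TensorProduct.lTensor_ker (A := Kh) (Ideal.Quotient.mkₐ K q)
      (Ideal.Quotient.mkₐ_surjective K q)).trans ?_
    rw [show RingHom.ker (Ideal.Quotient.mkₐ K q) = q from Ideal.Quotient.mkₐ_ker K q]
    rfl
  have key : ∀ Q : PrimeSpectrum (Kh ⊗[K] B),
      q = (PrimeSpectrum.comap (Algebra.TensorProduct.includeRight : B →ₐ[K] Kh ⊗[K] B).toRingHom Q).asIdeal →
      Q.asIdeal = RingHom.ker π.toRingHom := fun Q hQ =>
    ((inferInstance : (RingHom.ker π.toRingHom).IsMaximal).eq_of_le Q.2.ne_top
      (hk ▸ Ideal.map_le_iff_le_comap.2 hQ.le)).symm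
  exact PrimeSpectrum.ext ((key P rfl).trans (key P' (congrArg PrimeSpectrum.asIdeal hPP')).symm)

/-- Finite products of fields descend to the base. -/
theorem exists_descent (C : Type u) [CommRing C] [Algebra Kh C] [Algebra.Etale Kh C] [Module.Finite Kh C] :
    ∃ (B : Type u) (_ : CommRing B) (_ : Algebra K B), Module.Finite K B ∧ Algebra.Etale K B ∧
      Nonempty (Kh ⊗[K] B ≃ₐ[Kh] C) := by
  classical
  obtain ⟨I, hI, Ai, _, _, e, hA⟩ := (Algebra.Etale.iff_exists_algEquiv_prod Kh C).1 inferInstance
  haveI := Fintype.ofFinite I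
  haveI := fun i => (hA i).1
  haveI := fun i => (hA i).2
  have h := fun i => Groth.Agent.S7138.result R K Kh (Ai i)
  choose L hLF hLA hfin hsep hiso using h
  letI := fun i => hLF i
  letI := fun i => hLA i
  haveI := fun i => hfin i
  haveI := fun i => hsep i
  refine ⟨∀ i, L i, inferInstance, inferInstance, inferInstance, ?_, ⟨?_⟩⟩
  · exact (Algebra.Etale.iff_exists_algEquiv_prod K (∀ i, L i)).2
      ⟨I, hI, L, inferInstance, inferInstance, AlgEquiv.refl, fun i => ⟨hfin i, hsep i⟩⟩
  · exact ((Algebra.TensorProduct.piRight K Kh Kh L).trans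
      (AlgEquiv.piCongrRight fun i => (hiso i).some)).trans e.symm

theorem isEquivalence_restrict :
    (FEt.restrict (Spec.map (CommRingCat.ofHom (algebraMap K Kh)))).IsEquivalence := by
  let j := Spec.map (CommRingCat.ofHom (algebraMap K Kh))
  have hm : FEtLib.MeetsClopens j := fun U hU ⟨x, hx⟩ => by
    refine ⟨IsLocalRing.closedPoint Kh, ?_⟩
    have : Subsingleton (Spec (CommRingCat.of K) : Scheme.{u}) := inferInstanceAs (Subsingleton (PrimeSpectrum K))
    rwa [Subsingleton.elim (j _) x]
  have hd : FEtLib.ClopensDescend j := by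
    intro W V hV
    let y : W.left ⟶ Spec (CommRingCat.of K) := W.hom
    haveI : IsFinite y := W.prop.1
    haveI : Etale y := W.prop.2
    haveI : IsAffine W.left := isAffine_of_isAffineHom y
    let φ := Spec.preimage (W.left.isoSpec.inv ≫ y)
    have hφ : Spec.map φ = W.left.isoSpec.inv ≫ y := Spec.map_preimage _
    let B : Type u := Γ(W.left, ⊤)
    letI : Algebra K B := φ.hom.toAlgebra
    haveI : Module.Finite K B :=
      RingHom.finite_algebraMap.1 ((IsFinite.SpecMap_iff φ).1 (hφ ▸ inferInstance))
    haveI : Algebra.Etale K B :=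
      RingHom.etale_algebraMap.1 ((HasRingHomProperty.Spec_iff (P := @Etale) (φ := φ)).1 (hφ ▸ inferInstance))
    let P := ((FEt.restrict j).obj W).left
    let a : P ≅ Spec (CommRingCat.of (Kh ⊗[K] B)) :=
      asIso (pullback.map y j (Spec.map φ) j W.left.isoSpec.hom (𝟙 _) (𝟙 _) (by simp [hφ]) (by simp)) ≪≫
        pullbackSymmetry _ j ≪≫ pullbackSpecIso K Kh B
    have ha : a.hom ≫ Spec.map (CommRingCat.ofHom
        (Algebra.TensorProduct.includeRight : B →ₐ[K] Kh ⊗[K] B).toRingHom) =
        FEtLib.bcFst j W ≫ W.left.isoSpec.hom := by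
      simp only [a, Iso.trans_hom, Category.assoc, asIso_hom]
      refine (congrArg (fun z => _ ≫ (pullbackSymmetry _ j).hom ≫ z)
        (pullbackSpecIso_hom_snd K Kh B)).trans ?_
      refine (congrArg (fun z => _ ≫ z) (pullbackSymmetry_hom_comp_snd _ _)).trans ?_
      exact pullback.lift_fst _ _ _
    have hinj : Function.Injective (FEtLib.bcFst j W) := by
      have h1 : Function.Injective (a.hom ≫ Spec.map (CommRingCat.ofHom
          (Algebra.TensorProduct.includeRight : B →ₐ[K] Kh ⊗[K] B).toRingHom)) := by
        exact (injective_comap R K Kh B).comp a.hom.homeomorph.injective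
      rw [ha] at h1
      intro z z' h
      exact h1 (congrArg W.left.isoSpec.hom h)
    haveI : DiscreteTopology W.left := by
      haveI : IsArtinianRing B := IsArtinianRing.of_finite K B
      exact W.left.isoSpec.hom.homeomorph.symm.discreteTopology
    exact ⟨FEtLib.bcFst j W '' V, isClopen_discrete _, hinj.preimage_image V⟩
  haveI := FEtLib.full j hm hd
  haveI := FEtLib.faithful j hm
  haveI : (FEt.restrict j).EssSurj := ⟨fun Y₀ => by
    let y : Y₀.left ⟶ Spec (CommRingCat.of Kh) := Y₀.hom
    haveI : IsFinite y := Y₀.prop.1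
    haveI : Etale y := Y₀.prop.2
    haveI : IsAffine Y₀.left := isAffine_of_isAffineHom y
    let φ := Spec.preimage (Y₀.left.isoSpec.inv ≫ y)
    have hφ : Spec.map φ = Y₀.left.isoSpec.inv ≫ y := Spec.map_preimage _
    let C : Type u := Γ(Y₀.left, ⊤)
    letI : Algebra Kh C := φ.hom.toAlgebra
    haveI : Module.Finite Kh C :=
      RingHom.finite_algebraMap.1 ((IsFinite.SpecMap_iff φ).1 (hφ ▸ inferInstance))
    haveI : Algebra.Etale Kh C :=
      RingHom.etale_algebraMap.1 ((HasRingHomProperty.Spec_iff (P := @Etale) (φ := φ)).1 (hφ ▸ inferInstance))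
    obtain ⟨B, _, _, hfin, het, ⟨θ⟩⟩ := exists_descent R K Kh C
    let Y : FEt.Cat (Spec (CommRingCat.of K)) := MorphismProperty.Over.mk ⊤
      (Spec.map (CommRingCat.ofHom (algebraMap K B)))
      ⟨(IsFinite.SpecMap_iff _).2 (RingHom.finite_algebraMap.2 hfin),
        (HasRingHomProperty.Spec_iff (P := @Etale)).2 (RingHom.etale_algebraMap.2 het)⟩
    let e : ((FEt.restrict j).obj Y).left ≅ Y₀.left :=
      pullbackSymmetry _ j ≪≫ pullbackSpecIso K Kh B ≪≫
        Scheme.Spec.mapIso θ.toRingEquiv.toCommRingCatIso.symm.op ≪≫ Y₀.left.isoSpec.symm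
    refine ⟨Y, ⟨MorphismProperty.Over.isoMk e ?_⟩⟩
    show e.hom ≫ y = pullback.snd _ j
    simp only [e, Iso.trans_hom, Iso.symm_hom, Category.assoc]
    rw [← hφ]
    show _ ≫ _ ≫ Spec.map _ ≫ Spec.map φ = _
    rw [← Spec.map_comp]
    have : φ ≫ θ.toRingEquiv.toCommRingCatIso.symm.op.hom.unop =
        CommRingCat.ofHom (algebraMap Kh (Kh ⊗[K] B)) := by
      ext x
      exact θ.symm.commutes x
    rw [this]
    refine (congrArg ((pullbackSymmetry _ j).hom ≫ ·) (pullbackSpecIso_hom_fst K Kh B)).trans ?_
    exact pullbackSymmetry_hom_comp_fst _ _⟩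
  exact Functor.IsEquivalence.mk

end Groth.Agent.HenComplLib
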